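import Mathlib
import Cfsg.Prelude.Def_LocalStructure
import Cfsg.Agent.Classical.SmallPSL
import Cfsg.Agent.Fg24.IsoPGL.Semidirect

/-!
Groups of least order whose Sylow `p`-subgroups are not normal.
-/

set_option autoImplicit false

open Cfsg

namespace Cfsg.Agent.Fg24.NonPClosed

variable {p : ℕ} [Fact p.Prime]

/-- The group of maps `x ↦ ζ x + b` with `ζ ^ p = 1` of the field with `m` elements. -/
theorem exists_frobenius {m : ℕ} (hm : IsPrimePow m) (hpm : p ∣ m - 1) :
    ∃ (H : Type) (_ : Group H) (_ : Finite H), Nat.card H = p * m ∧ ¬ IsPClosed p H := by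
  classical
  have hp : p.Prime := Fact.out
  obtain ⟨q, k, hq, hk, rfl⟩ := (isPrimePow_nat_iff m).1 hm
  haveI := Fact.mk hq
  let F := GaloisField q k
  have hF : Nat.card F = q ^ k := GaloisField.card q k hk.ne'
  obtain ⟨ζ, hζ⟩ := exists_prime_orderOf_dvd_card' (G := Fˣ) p (by rw [Nat.card_units, hF]; exact hpm)
  let C : Subgroup Fˣ := Subgroup.zpowers ζ
  have hC : Nat.card C = p := (Nat.card_zpowers ζ).trans hζ
  let φ : C →* MulAut (Multiplicative F) := IsoPGL.mulAct
    (fun u => DistribMulAction.toAddEquiv F (u : Fˣ)) (fun v => one_smul Fˣ v)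
    (fun g h v => mul_smul (g : Fˣ) (h : Fˣ) v)
  let H := Multiplicative F ⋊[φ] C
  haveI : Finite F := Nat.finite_of_card_ne_zero (by rw [hF]; exact pow_ne_zero _ hq.ne_zero)
  haveI : Finite H := Finite.of_equiv _ SemidirectProduct.equivProd.symm
  have hcard : Nat.card H = p * q ^ k := by
    rw [Nat.card_congr SemidirectProduct.equivProd, Nat.card_prod,
      Nat.card_congr (Multiplicative.toAdd (α := F)), hF, hC, mul_comm]
  refine ⟨H, inferInstance, inferInstance, hcard, fun hcl => ?_⟩
  set R := (SemidirectProduct.inr : C →* H).range with hR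
  have hRc : Nat.card R = p := by
    rw [hR, ← Nat.card_congr (MonoidHom.ofInjective SemidirectProduct.inr_injective).toEquiv, hC]
  have hpq : ¬ p ∣ q ^ k := by
    intro h
    have h1 := Nat.dvd_sub h hpm
    rw [Nat.sub_sub_self (Nat.one_le_pow _ _ hq.pos)] at h1
    exact hp.not_dvd_one h1
  have hRs : Nat.card R = p ^ (Nat.card H).factorization p := by
    rw [hRc, hcard, Nat.factorization_mul hp.ne_zero (pow_ne_zero _ hq.ne_zero), Finsupp.add_apply,
      hp.factorization_self, Nat.factorization_eq_zero_of_not_dvd hpq, add_zero, pow_one]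
  have hn : R.Normal := hcl (Sylow.ofCard R hRs)
  obtain ⟨c, hc⟩ := hn.conj_mem (SemidirectProduct.inr ⟨ζ, Subgroup.mem_zpowers ζ⟩) ⟨_, rfl⟩
    (SemidirectProduct.inl (Multiplicative.ofAdd (1 : F)))
  have h1 := congrArg SemidirectProduct.left hc
  simp only [SemidirectProduct.left_inr, SemidirectProduct.mul_left, SemidirectProduct.left_inl,
    SemidirectProduct.right_inl, SemidirectProduct.inv_left, SemidirectProduct.mul_right,
    SemidirectProduct.right_inr, map_one, MulAut.one_apply, mul_one, one_mul, inv_one] at h1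
  have h2 : (0 : F) = 1 + (ζ : F) * (-1) := congrArg Multiplicative.toAdd h1
  have hζ1 : ((ζ : Fˣ) : F) = 1 := by linear_combination h2
  rw [Units.val_eq_one.1 hζ1, orderOf_one] at hζ
  exact hp.ne_one hζ.symm

/-- `PSL(2, p)`. -/
theorem exists_psl (h5 : 5 ≤ p) :
    ∃ (H : Type) (_ : Group H) (_ : Finite H), Nat.card H = p * (p ^ 2 - 1) / 2 ∧ ¬ IsPClosed p H := by
  classical
  have hp : p.Prime := Fact.out
  have hcard : Fintype.card (ZMod p) = p := ZMod.card p
  have hodd : p % 2 = 1 := hp.eq_two_or_odd.resolve_left (by omega)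
  have hsimple : IsSimpleGroup (Matrix.ProjectiveSpecialLinearGroup (Fin 2) (ZMod p)) :=
    Classical.isSimpleGroup_psl (Or.inr ⟨by simp, Classical.Small.exists_sq_ne_one (by omega)⟩)
  have h1 := Classical.card_sl_mul (F := ZMod p) hcard 2 (by norm_num)
  have h3 := Classical.card_psl_mul (F := ZMod p) (ι := Fin 2)
  rw [Fintype.card_fin, hcard, Nat.gcd_eq_left (by omega : 2 ∣ p - 1)] at h3
  rw [← h3, Fin.prod_univ_two] at h1
  simp only [Fin.val_zero, Fin.val_one, pow_zero, pow_one] at h1
  set c := Nat.card (Matrix.ProjectiveSpecialLinearGroup (Fin 2) (ZMod p)) with hc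
  have h4 : 2 * c = p * (p ^ 2 - 1) := by
    refine Nat.eq_of_mul_eq_mul_left (by omega : 0 < p - 1) (h1.trans ?_)
    rw [pow_two, show p * p - p = p * (p - 1) by rw [Nat.mul_sub, mul_one]]
    ring
  have h4' : c = p * (p ^ 2 - 1) / 2 := by omega
  refine ⟨_, inferInstance, inferInstance, h4', fun hcl => ?_⟩
  obtain ⟨P⟩ : Nonempty (Sylow p (Matrix.ProjectiveSpecialLinearGroup (Fin 2) (ZMod p))) := inferInstance
  have hdvd : p ∣ c :=
    ((Nat.coprime_primes hp Nat.prime_two).2 (by omega)).dvd_of_dvd_mul_left (h4 ▸ dvd_mul_right p _)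
  rcases IsSimpleGroup.eq_bot_or_eq_top_of_normal _ (hcl P) with h | h
  · have h5' := P.dvd_card_of_dvd_card hdvd
    rw [h, Subgroup.card_bot] at h5'
    exact hp.not_dvd_one h5'
  · obtain ⟨k, hk⟩ := IsPGroup.iff_card.1 P.isPGroup'
    rw [h, Subgroup.card_top, ← hc] at hk
    have h6 : p + 1 ∣ 2 * p ^ k := by
      rw [← hk, h4, show p ^ 2 - 1 = (p + 1) * (p - 1) by simpa using Nat.sq_sub_sq p 1]
      exact Dvd.dvd.mul_left (dvd_mul_right _ _) _
    have h7 : p + 1 ∣ 2 := ((Nat.coprime_self_add_left (m := p) (n := 1)).2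
      (Nat.coprime_one_left p) |>.pow_right k).dvd_of_dvd_mul_right h6
    have := Nat.le_of_dvd two_pos h7
    omega

end Cfsg.Agent.Fg24.NonPClosed
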