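import Cfsg.Agent.Fg24.Brauer.Main
import Cfsg.Prelude.Def_LocalStructure

/-!
The least order of a group whose Sylow `p`-subgroups are not normal: the lower bound.
-/

set_option autoImplicit false

open Cfsg

namespace Cfsg.Agent.Fg24.NonPClosed

variable {H : Type} [Group H] [Finite H] {p : ℕ} [Fact p.Prime]

/-- A normal Sylow subgroup of a normal subgroup is normal. -/
theorem map_normal {N : Subgroup H} [N.Normal] (R : Sylow p N) (hR : (R : Subgroup N).Normal) :
    ((R : Subgroup N).map N.subtype).Normal := by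
  haveI := R.characteristic_of_normal hR
  exact ConjAct.normal_of_characteristic_of_normal

/-- In a group with `p`-closed quotients and subgroups, `P` and a nontrivial normal subgroup generate. -/
theorem sup_eq_top (hsub : ∀ K : Subgroup H, K ≠ ⊤ → IsPClosed p K)
    (hquo : ∀ (N : Subgroup H) [N.Normal], N ≠ ⊥ → IsPClosed p (H ⧸ N))
    (P : Sylow p H) (hP : ¬ (P : Subgroup H).Normal) (N : Subgroup H) [hN : N.Normal] (hne : N ≠ ⊥) :
    (P : Subgroup H) ⊔ N = ⊤ := by
  by_contra hW
  have h1 := hquo N hne (P.mapSurjective (QuotientGroup.mk'_surjective N))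
  rw [Sylow.coe_mapSurjective] at h1
  have h2 : ((P : Subgroup H) ⊔ N).Normal := by
    have h3 := h1.comap (QuotientGroup.mk' N)
    rwa [Subgroup.comap_map_eq, QuotientGroup.ker_mk'] at h3
  haveI := h2
  have h4 := map_normal (P.subtype (le_sup_left (a := (P : Subgroup H)) (b := N)))
    (hsub _ hW _)
  rw [Sylow.coe_subtype, Subgroup.subgroupOf_map_subtype,
    inf_eq_left.2 (le_sup_left (a := (P : Subgroup H)) (b := N))] at h4
  exact hP h4

theorem index_dvd_card {K N : Subgroup H} [N.Normal] (h : K ⊔ N = ⊤) : K.index ∣ Nat.card N := by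
  have h1 := Subgroup.relIndex_sup_right (H := K) (K := N)
  rw [h, Subgroup.relIndex_top_right] at h1
  have h2 := Subgroup.relIndex_mul_relIndex ⊥ (N ⊓ K) K bot_le inf_le_right
  rw [Subgroup.inf_relIndex_right, ← h1, Subgroup.relIndex_bot_left, Subgroup.relIndex_bot_left] at h2
  have h3 : Nat.card K * K.index = Nat.card N * N.index := by rw [K.card_mul_index, N.card_mul_index]
  rw [← h2, mul_right_comm] at h3
  exact ⟨Nat.card ↥(N ⊓ K), by
    rw [mul_comm K.index]
    exact (Nat.eq_of_mul_eq_mul_right (Nat.pos_of_ne_zero Subgroup.index_ne_zero_of_finite) h3).symm⟩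

theorem not_dvd_card (hsub : ∀ K : Subgroup H, K ≠ ⊤ → IsPClosed p K)
    (hquo : ∀ (N : Subgroup H) [N.Normal], N ≠ ⊥ → IsPClosed p (H ⧸ N))
    (P : Sylow p H) (hP : ¬ (P : Subgroup H).Normal) (N : Subgroup H) [hN : N.Normal] (htop : N ≠ ⊤) :
    ¬ p ∣ Nat.card N := by
  intro hd
  obtain ⟨R⟩ : Nonempty (Sylow p N) := inferInstance
  haveI hM : ((R : Subgroup N).map N.subtype).Normal := map_normal R (hsub N htop R)
  have hne : (R : Subgroup N).map N.subtype ≠ ⊥ := by
    intro h
    have h1 : (R : Subgroup N) = ⊥ :=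
      (Subgroup.map_eq_bot_iff_of_injective _ N.subtype_injective).1 h
    have h2 : p ∣ Nat.card (R : Subgroup N) := R.dvd_card_of_dvd_card hd
    rw [h1, Subgroup.card_bot] at h2
    exact (Fact.out : p.Prime).not_dvd_one h2
  have h1 := sup_eq_top hsub hquo P hP _ hne
  have h2 : (R : Subgroup N).map N.subtype ≤ (P : Subgroup H) :=
    (R.isPGroup'.map N.subtype).le_sylow_of_normal P
  rw [sup_eq_left.2 h2] at h1
  exact hP (h1 ▸ inferInstance)

/-- A normal subgroup other than `⊥`, `⊤` forces the order to be large. -/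
theorem of_not_simple (hsub : ∀ K : Subgroup H, K ≠ ⊤ → IsPClosed p K)
    (hquo : ∀ (N : Subgroup H) [N.Normal], N ≠ ⊥ → IsPClosed p (H ⧸ N))
    (P : Sylow p H) (hP : ¬ (P : Subgroup H).Normal) (N : Subgroup H) [hN : N.Normal] (hne : N ≠ ⊥)
    (htop : N ≠ ⊤) {m : ℕ} (hleast : ∀ k : ℕ, IsPrimePow k → k % p = 1 → m ≤ k) :
    p * m ≤ Nat.card H := by
  classical
  have hp : p.Prime := Fact.out
  have hpN := not_dvd_card hsub hquo P hP N htop
  have hW := sup_eq_top hsub hquo P hP N hne
  have hpH : p ∣ Nat.card H := by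
    by_contra h
    apply hP
    have h1 : (P : Subgroup H) = ⊥ := Subgroup.eq_bot_of_card_eq _ (by
      rw [P.card_eq_multiplicity, Nat.factorization_eq_zero_of_not_dvd h, pow_zero])
    rw [h1]; infer_instance
  have hnP : Nat.card (Sylow p H) ∣ Nat.card N :=
    (P.card_dvd_index).trans (index_dvd_card hW)
  have hn1 : Nat.card (Sylow p H) ≠ 1 := fun h => hP (Subgroup.normalizer_eq_top_iff.1
    (Subgroup.index_eq_one.1 (P.card_eq_index_normalizer.symm.trans h)))
  -- a prime power bound on the number of Sylow subgroups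
  suffices ∃ q k : ℕ, q.Prime ∧ Nat.card N = q ^ k by
    obtain ⟨q, k, hq, hk⟩ := this
    obtain ⟨j, -, hj⟩ := (Nat.dvd_prime_pow hq).1 (hk ▸ hnP)
    have hj0 : j ≠ 0 := fun h => hn1 (by rw [hj, h, pow_zero])
    have h1 : Nat.card (Sylow p H) % p = 1 := by
      rw [card_sylow_modEq_one p H, Nat.mod_eq_of_lt hp.one_lt]
    have h2 := hleast _ ⟨q, j, hq.prime, Nat.pos_of_ne_zero hj0, hj.symm⟩ h1
    have h3 := SmallOrder.card_sylow_mul_card_normalizer P
    have h4 : p ≤ Nat.card (Subgroup.normalizer ((P : Subgroup H) : Set H)) :=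
      (Nat.le_of_dvd Nat.card_pos (P.dvd_card_of_dvd_card hpH)).trans
        (Subgroup.card_le_of_le Subgroup.le_normalizer)
    calc p * m ≤ Nat.card (Subgroup.normalizer ((P : Subgroup H) : Set H)) * Nat.card (Sylow p H) :=
          Nat.mul_le_mul h4 h2
      _ = Nat.card H := by rw [mul_comm, h3]
  -- some prime `q` has a Sylow subgroup of `N` which with `P` generates
  by_contra hcon
  apply hn1
  set c := Nat.card (Subgroup.normalizer ((P : Subgroup H) : Set H)) with hc
  have key : Nat.card N ∣ c := by
    refine (Nat.dvd_iff_prime_pow_dvd_dvd (n := c) (d := Nat.card N)).2 fun q k hq hk => ?_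
    haveI := Fact.mk hq
    obtain ⟨Q⟩ : Nonempty (Sylow q N) := inferInstance
    refine dvd_trans (Q.pow_dvd_card_of_pow_dvd_card hk) ?_
    set Qm := (Q : Subgroup N).map N.subtype with hQm
    have hQc : Nat.card Qm = Nat.card (Q : Subgroup N) :=
      Subgroup.card_map_of_injective N.subtype_injective
    set K := Subgroup.normalizer (Qm : Set H)
    have hK : K ⊔ N = ⊤ := Sylow.normalizer_sup_eq_top Q
    have hKi : K.index ∣ Nat.card N := index_dvd_card hK
    obtain ⟨R₀⟩ : Nonempty (Sylow p K) := inferInstance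
    have hR : Nat.card ((R₀ : Subgroup K).map K.subtype) = p ^ (Nat.card H).factorization p := by
      rw [Subgroup.card_map_of_injective K.subtype_injective, R₀.card_eq_multiplicity,
        ← K.card_mul_index, Nat.factorization_mul Nat.card_pos.ne' Subgroup.index_ne_zero_of_finite,
        Finsupp.add_apply, Nat.factorization_eq_zero_of_not_dvd fun h => hpN (h.trans hKi), add_zero]
    let R : Sylow p H := Sylow.ofCard _ hR
    have hRK : (R : Subgroup H) ≤ K := Subgroup.map_subtype_le _
    have hRQ : Qm ≤ Subgroup.normalizer ((R : Subgroup H) : Set H) := by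
      by_cases hV : (R : Subgroup H) ⊔ Qm = ⊤
      · exfalso
        have hQn : Qm.Normal := by
          rw [← Subgroup.normalizer_eq_top_iff, eq_top_iff, ← hV]
          exact sup_le hRK Subgroup.le_normalizer
        by_cases hQ0 : Qm = ⊥
        · rw [hQ0, sup_bot_eq] at hV
          have h1 : Nat.card N ∣ p ^ (Nat.card H).factorization p := by
            rw [← hR, show (R₀ : Subgroup K).map K.subtype = ⊤ from hV, Subgroup.card_top]
            exact Subgroup.card_subgroup_dvd_card N
          obtain ⟨j, -, hj⟩ := (Nat.dvd_prime_pow hp).1 h1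
          exact hcon ⟨p, j, hp, hj⟩
        · haveI := hQn
          have hQP := sup_eq_top hsub hquo P hP Qm hQ0
          obtain ⟨a, ha⟩ := IsPGroup.iff_card.1 Q.isPGroup'
          refine hcon ⟨q, a, hq, ?_⟩
          have hle : Qm ≤ N := Subgroup.map_subtype_le _
          have h2 := Subgroup.relIndex_sup_right (H := (P : Subgroup H)) (K := Qm)
          rw [hQP, Subgroup.relIndex_top_right] at h2
          have h3 : Qm.index ∣ p ^ (Nat.card H).factorization p := by
            rw [h2, ← P.card_eq_multiplicity]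
            exact Subgroup.relIndex_dvd_card _ _
          have h4 : Qm.relIndex N ∣ Qm.index := Subgroup.relIndex_dvd_index_of_normal _ _
          obtain ⟨j, -, hj⟩ := (Nat.dvd_prime_pow hp).1 (h4.trans h3)
          have h5 := Subgroup.relIndex_mul_relIndex (⊥ : Subgroup H) Qm N bot_le hle
          rw [Subgroup.relIndex_bot_left, Subgroup.relIndex_bot_left, hj, hQc, ha] at h5
          rcases Nat.eq_zero_or_pos j with rfl | hj0
          · rw [← h5, pow_zero, mul_one]
          · exact absurd (h5 ▸ Dvd.dvd.mul_left (dvd_pow_self p hj0.ne') (q ^ a)) hpN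
      · have h1 := hsub _ hV (R.subtype (le_sup_left (a := (R : Subgroup H)) (b := Qm)))
        rw [Sylow.coe_subtype, Subgroup.normal_subgroupOf_iff_le_normalizer le_sup_left] at h1
        exact le_sup_right.trans h1
    have h1 := Subgroup.card_dvd_of_le hRQ
    have h2 := SmallOrder.card_sylow_mul_card_normalizer P
    rw [← SmallOrder.card_sylow_mul_card_normalizer R] at h2
    rw [hc, Nat.eq_of_mul_eq_mul_left Nat.card_pos h2, ← hQc]
    exact h1
  have h1 : Nat.card (P : Subgroup H) ∣ c := Subgroup.card_dvd_of_le Subgroup.le_normalizer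
  have h2 : (Nat.card (P : Subgroup H)).Coprime (Nat.card N) := by
    rw [P.card_eq_multiplicity]
    exact Nat.Coprime.pow_left _ (hp.coprime_iff_not_dvd.2 hpN)
  have h3 : Nat.card H ∣ c := by
    refine dvd_trans ?_ (h2.mul_dvd_of_dvd_of_dvd h1 key)
    rw [← (P : Subgroup H).card_mul_index]
    exact Nat.mul_dvd_mul_left _ (index_dvd_card hW)
  have h4 := SmallOrder.card_sylow_mul_card_normalizer P
  have h6 := Nat.le_of_dvd Nat.card_pos h3
  rw [← h4] at h6
  have h7 : Nat.card (Sylow p H) ≤ 1 := by
    refine Nat.le_of_mul_le_mul_right ?_ (Nat.card_pos (α := Subgroup.normalizer ((P : Subgroup H) : Set H)))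
    rwa [one_mul]
  have : 0 < Nat.card (Sylow p H) := Nat.card_pos
  omega

/-- The lower bound. -/
theorem lower (hp2 : p ≠ 2) {m : ℕ} (hleast : ∀ k : ℕ, IsPrimePow k → k % p = 1 → m ≤ k) (n : ℕ) :
    ∀ (H : Type) [Group H] [Finite H], Nat.card H = n → ¬ IsPClosed p H →
      min (p * m) (p * (p ^ 2 - 1) / 2) ≤ n := by
  classical
  have hp : p.Prime := Fact.out
  induction n using Nat.strong_induction_on with
  | _ n IH =>
    intro H _ _ hn hnc
    by_contra hlt
    rw [not_le] at hlt
    have hsub : ∀ K : Subgroup H, K ≠ ⊤ → IsPClosed p K := by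
      intro K hK
      by_contra hKn
      have h1 : Nat.card K < n := by
        rw [← hn]
        by_contra h
        exact hK (Subgroup.eq_top_of_le_card _ (not_lt.1 h))
      exact absurd ((IH _ h1 K rfl hKn).trans h1.le) (not_le.2 hlt)
    have hquo : ∀ (N : Subgroup H) [N.Normal], N ≠ ⊥ → IsPClosed p (H ⧸ N) := by
      intro N _ hN
      by_contra hKn
      have h1 : Nat.card (H ⧸ N) < n := by
        rw [← hn, N.card_eq_card_quotient_mul_card_subgroup]
        exact lt_mul_of_one_lt_right Nat.card_pos (N.one_lt_card_iff_ne_bot.2 hN)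
      exact absurd ((IH _ h1 (H ⧸ N) rfl hKn).trans h1.le) (not_le.2 hlt)
    obtain ⟨P, hP⟩ := not_forall.1 hnc
    by_cases hsimp : ∀ N : Subgroup H, N.Normal → N = ⊥ ∨ N = ⊤
    · have hpH : p ∣ Nat.card H := by
        by_contra h
        apply hP
        have h1 : (P : Subgroup H) = ⊥ := Subgroup.eq_bot_of_card_eq _ (by
          rw [P.card_eq_multiplicity, Nat.factorization_eq_zero_of_not_dvd h, pow_zero])
        rw [h1]; infer_instance
      have hperf : commutator H = ⊤ := by
        rcases hsimp (commutator H) inferInstance with h | h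
        · refine absurd ⟨fun x hx g => ?_⟩ hP
          have h1 := (Subgroup.eq_bot_iff_forall _).1 h _
            (Subgroup.commutator_mem_commutator (Subgroup.mem_top g) (Subgroup.mem_top x))
          rw [commutatorElement_eq_one_iff_mul_comm.1 h1, mul_inv_cancel_right]
          exact hx
        · exact h
      have hX : p * (p ^ 2 - 1) = p * ((p - 1) * (p + 1)) := by
        rw [show p ^ 2 - 1 = (p - 1) * (p + 1) by
          rw [mul_comm]; simpa using Nat.sq_sub_sq p 1]
      have hlt2 : n < p * (p ^ 2 - 1) / 2 := lt_of_lt_of_le hlt (min_le_right _ _)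
      have hbig : Nat.card H < p ^ 3 := by
        rw [hn]
        refine lt_of_lt_of_le hlt2 (le_trans (Nat.div_le_self _ _) ?_)
        rw [pow_succ' p 2]
        exact Nat.mul_le_mul_left _ (Nat.sub_le _ _)
      have hPc : Nat.card (P : Subgroup H) = p := by
        obtain ⟨k, hk⟩ := IsPGroup.iff_card.1 P.isPGroup'
        have h1 : p ∣ Nat.card (P : Subgroup H) := P.dvd_card_of_dvd_card hpH
        rcases Nat.lt_or_ge k 1 with hk0 | hk0
        · rw [show k = 0 by omega] at hk; rw [hk, pow_zero] at h1; exact absurd h1 hp.not_dvd_one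
        rcases Nat.lt_or_ge k 2 with hk2 | hk2
        · rw [hk, show k = 1 by omega, pow_one]
        exfalso
        have hn1 : Nat.card (Sylow p H) ≠ 1 := fun h => hP (Subgroup.normalizer_eq_top_iff.1
          (Subgroup.index_eq_one.1 (P.card_eq_index_normalizer.symm.trans h)))
        have hnp : p + 1 ≤ Nat.card (Sylow p H) := by
          have h3 : Nat.card (Sylow p H) % p = 1 := by
            rw [card_sylow_modEq_one p H, Nat.mod_eq_of_lt hp.one_lt]
          have h4 := Nat.div_add_mod (Nat.card (Sylow p H)) p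
          rcases Nat.eq_zero_or_pos (Nat.card (Sylow p H) / p) with h | h
          · rw [h, mul_zero] at h4; omega
          · have := Nat.le_mul_of_pos_right p h
            omega
        have h3 := SmallOrder.card_sylow_mul_card_normalizer P
        have h4 : p ^ 2 ≤ Nat.card (Subgroup.normalizer ((P : Subgroup H) : Set H)) :=
          ((Nat.pow_le_pow_right hp.pos hk2).trans hk.ge).trans
            (Subgroup.card_le_of_le Subgroup.le_normalizer)
        have h5 := Nat.mul_le_mul hnp h4
        rw [h3] at h5
        rw [pow_succ] at hbig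
        nlinarith
      have hcore : ∀ K : Subgroup H, K.Normal → ¬ p ∣ Nat.card K → K = ⊥ := fun K hK hd =>
        (hsimp K hK).resolve_right fun h => hd (by rwa [h, Subgroup.card_top])
      obtain ⟨-, -, h⟩ := Brauer.core_case hperf P hPc hbig hcore
      rw [← hX, hn] at h
      omega
    · simp only [not_forall] at hsimp
      obtain ⟨N, hN, hN'⟩ := hsimp
      rw [not_or] at hN'
      haveI := hN
      have := of_not_simple hsub hquo P hP N hN'.1 hN'.2 hleast
      have := lt_of_lt_of_le hlt (min_le_left _ _)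
      omega

end Cfsg.Agent.Fg24.NonPClosed
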